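import Cfsg.Agent.BS.SE
import Cfsg.Agent.BS.SECor
import Cfsg.Agent.W.Basic
import Cfsg.Agent.H8.Char4

/-! Conjugate types (class sizes) of simple groups: basic lemmas. -/

set_option autoImplicit false
set_option linter.unusedSectionVars false
set_option linter.unusedVariables false

namespace IT

open Cfsg Subgroup FT H4 BS
open H5 (IsSylowOf)

universe u

variable {G : Type*} [Group G] [Finite G] {x y z w : G} {p : ℕ}

/-- the size of the class of `x` -/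
noncomputable abbrev ix (x : G) : ℕ := (Cen1 x).index

theorem self_mem (x : G) : x ∈ Cen1 x := c1_iff.mpr rfl

theorem c1_symm (h : x ∈ Cen1 y) : y ∈ Cen1 x := c1_iff.mpr (c1_iff.mp h).symm

theorem cen1_le_of_mem (h : y ∈ zpowers x) : Cen1 x ≤ Cen1 y := fun g hg =>
  c1_symm (zpowers_le.mpr (c1_symm hg) h)

theorem mem_zpowers_mul (hc : y ∈ Cen1 x) (ho : (orderOf x).Coprime (orderOf y)) :
    x ∈ zpowers (x * y) := by
  have h1 : Commute x y := (c1_iff.mp hc).symm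
  have h2 : (x * y) ^ orderOf y = x ^ orderOf y := by
    rw [h1.mul_pow, pow_orderOf_eq_one, mul_one]
  exact zpowers_le.mpr (h2 ▸ pow_mem (mem_zpowers _) _) (mem_zpowers_pow_iff.mpr ho.symm)

theorem cen1_mul (hc : y ∈ Cen1 x) (ho : (orderOf x).Coprime (orderOf y)) :
    Cen1 (x * y) = Cen1 x ⊓ Cen1 y := by
  refine le_antisymm (le_inf (cen1_le_of_mem (mem_zpowers_mul hc ho)) (cen1_le_of_mem ?_))
    fun g hg => c1_symm (mul_mem (c1_symm hg.1) (c1_symm hg.2))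
  rw [← c1_iff.mp hc]
  exact mem_zpowers_mul (c1_symm hc) ho.symm

theorem mul_ne_one (hx : x ≠ 1) (hc : y ∈ Cen1 x) (ho : (orderOf x).Coprime (orderOf y)) :
    x * y ≠ 1 := fun e => hx (by simpa [e] using mem_zpowers_mul hc ho)

theorem ix_dvd (h : Cen1 x ≤ Cen1 y) : ix y ∣ ix x := index_dvd_of_le h

theorem ix_pos (x : G) : 0 < ix x := Nat.pos_of_ne_zero index_ne_zero_of_finite

theorem card_mul_ix (x : G) : Nat.card (Cen1 x) * ix x = Nat.card G := card_mul_index _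

theorem eq_of_index {A B : Subgroup G} (h : A ≤ B) (e : A.index = B.index) : A = B := by
  refine eq_of_le_of_card_ge h (le_of_eq (Nat.eq_of_mul_eq_mul_right
    (Nat.pos_of_ne_zero (index_ne_zero_of_finite (H := A))) ?_))
  rw [card_mul_index, e, card_mul_index]

theorem ix_conj (g x : G) : ix (g * x * g⁻¹) = ix x := by
  rw [ix, ← conjS_cen1]
  exact index_map_equiv _ (MulAut.conj g)

/-- the centralizer order of `x` is minimal for divisibility -/
def Mn (x : G) : Prop := x ≠ 1 ∧ ∀ y : G, y ≠ 1 → ix x ∣ ix y → ix y = ix x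

/-- the centralizer order of `x` is maximal for divisibility -/
def Mx (x : G) : Prop := x ≠ 1 ∧ ∀ y : G, y ≠ 1 → ix y ∣ ix x → ix y = ix x

theorem Mn.eq (h : Mn x) (hy : y ≠ 1) (hle : Cen1 y ≤ Cen1 x) : Cen1 y = Cen1 x :=
  eq_of_index hle (h.2 y hy (ix_dvd hle))

theorem Mx.eq (h : Mx x) (hy : y ≠ 1) (hle : Cen1 x ≤ Cen1 y) : Cen1 y = Cen1 x :=
  (eq_of_index hle (h.2 y hy (ix_dvd hle)).symm).symm

theorem Mn.congr (h : Mn x) (hy : y ≠ 1) (e : ix y = ix x) : Mn y :=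
  ⟨hy, fun z hz h1 => e ▸ h.2 z hz (e ▸ h1)⟩

theorem Mx.congr (h : Mx x) (hy : y ≠ 1) (e : ix y = ix x) : Mx y :=
  ⟨hy, fun z hz h1 => e ▸ h.2 z hz (e ▸ h1)⟩

/-- elements of coprime order in a minimal centralizer are central -/
theorem Mn.le (h : Mn x) (hc : y ∈ Cen1 x) (ho : (orderOf x).Coprime (orderOf y)) :
    Cen1 x ≤ Cen1 y := by
  rw [← h.eq (mul_ne_one h.1 hc ho) ((cen1_mul hc ho).le.trans inf_le_left), cen1_mul hc ho]
  exact inf_le_right

theorem exists_prime_pow (hx : x ≠ 1) : ∃ y ∈ zpowers x, (orderOf y).Prime :=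
  exists_prime_orderOf_mem (by simpa using hx)

theorem exists_pow_of_dvd (hp : p.Prime) (h : p ∣ orderOf x) : ∃ y ∈ zpowers x, orderOf y = p := by
  have : Fact p.Prime := ⟨hp⟩
  obtain ⟨y, hy⟩ := exists_prime_orderOf_dvd_card' (G := zpowers x) p (by rwa [Nat.card_zpowers])
  exact ⟨y, y.2, by rw [← hy, orderOf_coe]⟩

theorem exists_mem_of_dvd {X : Subgroup G} (hp : p.Prime) (h : p ∣ Nat.card X) :
    ∃ y ∈ X, orderOf y = p := by
  have : Fact p.Prime := ⟨hp⟩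
  obtain ⟨y, hy⟩ := exists_prime_orderOf_dvd_card' (G := X) p h
  exact ⟨y, y.2, by rw [← hy, orderOf_coe]⟩

/-- `x` is a `p`-element -/
def PE (p : ℕ) (x : G) : Prop := ∃ k, x ^ p ^ k = 1

theorem PE.of_orderOf (h : orderOf x = p) : PE p x := ⟨1, by rw [pow_one, ← h, pow_orderOf_eq_one]⟩

theorem PE.of_mem {P : Subgroup G} (hP : IsPGroup p P) (hx : x ∈ P) : PE p x := by
  obtain ⟨k, hk⟩ := hP ⟨x, hx⟩
  exact ⟨k, congrArg Subtype.val hk⟩

theorem PE.isPGroup (h : PE p x) : IsPGroup p (zpowers x) := by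
  obtain ⟨k, hk⟩ := h
  exact H4.isPGroup_zpowers_of_pow hk

theorem PE.coprime (h : PE p x) {n : ℕ} (hn : n.Coprime p) : (orderOf x).Coprime n := by
  obtain ⟨k, hk⟩ := h
  exact (hn.symm.pow_left k).coprime_dvd_left (orderOf_dvd_of_pow_eq_one hk)

theorem PE.coprime' {q : ℕ} (h : PE p x) (h' : PE q y) (hp : p.Prime) (hq : q.Prime) (hne : p ≠ q) :
    (orderOf x).Coprime (orderOf y) :=
  h.coprime (h'.coprime ((Nat.coprime_primes hp hq).mpr hne)).symm.symm

theorem PE.conj (h : PE p x) (g : G) : PE p (g * x * g⁻¹) := by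
  obtain ⟨k, hk⟩ := h
  exact ⟨k, by rw [conj_pow, hk]; simp⟩

theorem PE.dvd (h : PE p x) (hp : p.Prime) (hx : x ≠ 1) : p ∣ orderOf x := by
  obtain ⟨k, hk⟩ := h
  obtain ⟨j, -, hj⟩ := (Nat.dvd_prime_pow hp).mp (orderOf_dvd_of_pow_eq_one hk)
  rcases j with _ | j
  · exact absurd (orderOf_eq_one_iff.mp hj) hx
  · exact hj ▸ dvd_pow_self p j.succ_ne_zero

theorem PE.mul (h : PE p x) (h' : PE p y) (hc : y ∈ Cen1 x) : PE p (x * y) := by
  obtain ⟨k, hk⟩ := h
  obtain ⟨j, hj⟩ := h'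
  have h1 : Commute x y := (c1_iff.mp hc).symm
  exact ⟨k + j, by rw [h1.mul_pow, pow_add, pow_mul, hk, mul_comm (p ^ k), pow_mul, hj]; simp⟩

theorem PE.of_zpowers (h : PE p x) (hy : y ∈ zpowers x) : PE p y := PE.of_mem h.isPGroup hy

/-- a nontrivial `p`-group has a central element of order `p` -/
theorem exists_cen {P : Subgroup G} (hp : p.Prime) (hP : IsPGroup p P) (h0 : P ≠ ⊥) :
    ∃ z ∈ P, orderOf z = p ∧ P ≤ Cen1 z := by
  have : Fact p.Prime := ⟨hp⟩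
  obtain ⟨z, h1, h2, h3, h4⟩ := H7.exists_fixed_order_p hP hP le_normalizer h0
  exact ⟨z, h1, orderOf_eq_prime h3 h2, fun g hg => c1_iff.mpr (h4 g (mem_sup_left hg))⟩

theorem sylow_of_not_dvd {X P : Subgroup G} (hp : p.Prime) (h : IsSylowOf p P X)
    (hX : ¬ p ∣ X.index) : IsSylowOf p P ⊤ :=
  ⟨le_top, h.isPGroup, fun e => by
    rw [relIndex_top_right, ← relIndex_mul_index h.le] at e
    exact ((Nat.Prime.dvd_mul hp).mp e).elim h.not_dvd hX⟩

theorem not_dvd_of_sylow {X P : Subgroup G} (h : IsSylowOf p P ⊤) (hX : P ≤ X) : ¬ p ∣ X.index :=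
  fun e => h.not_dvd (by rw [relIndex_top_right]; exact e.trans (index_dvd_of_le hX))

/-- if `C(y)` has index prime to `p`, every `p`-element centralizes a conjugate of `y` -/
theorem exists_conj_comm (hp : p.Prime) (hy : ¬ p ∣ ix y) (hx : PE p x) :
    ∃ g : G, x ∈ Cen1 (g * y * g⁻¹) := by
  have : Fact p.Prime := ⟨hp⟩
  obtain ⟨P, hP⟩ := H5.exists_isSylowOf p (Cen1 y)
  obtain ⟨k, -, hk⟩ := (sylow_of_not_dvd hp hP hy).exists_conj_le hx.isPGroup le_top
  refine ⟨k⁻¹, ?_⟩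
  rw [← conjS_cen1, mem_conjS, inv_inv]
  exact hP.le (hk (conj_mem_conjS (mem_zpowers x)))

theorem exists_full (hp : p.Prime) (h : p ∣ Nat.card G) : ∃ z : G, orderOf z = p ∧ ¬ p ∣ ix z := by
  have : Fact p.Prime := ⟨hp⟩
  obtain ⟨P, hP⟩ := H5.exists_isSylowOf p (⊤ : Subgroup G)
  obtain ⟨z, -, h1, h2⟩ := exists_cen hp hP.isPGroup (hP.ne_bot (by rwa [card_top]))
  exact ⟨z, h1, not_dvd_of_sylow hP h2⟩

theorem ne_one_of_orderOf (hp : p.Prime) (h : orderOf x = p) : x ≠ 1 :=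
  ne_one_of_prime_orderOf (h ▸ hp)

/-- if the `p'`-elements of `X` are central then `X` is `p`-closed -/
theorem le_nor_of_central {X P : Subgroup G} (hp : p.Prime) (hP : IsSylowOf p P X)
    (h : ∀ y ∈ X, (orderOf y).Coprime p → X ≤ Cen1 y) : X ≤ Nor P := by
  have : Fact p.Prime := ⟨hp⟩
  refine H5.le_of_forall_sylow fun r hr _ => ?_
  by_cases e : r = p
  · subst e; exact ⟨P, hP, le_normalizer⟩
  obtain ⟨R, hR⟩ := H5.exists_isSylowOf r X
  refine ⟨R, hR, fun y hy => centralizer_le_normalizer _ (cen_iff.mpr fun a ha => ?_)⟩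
  exact (c1_iff.mp (h y (hR.le hy) ((PE.of_mem hR.isPGroup hy).coprime
    ((Nat.coprime_primes hp hr.out).mpr (Ne.symm e))) (hP.le ha))).symm

/-- subgroups of coprime indices -/
theorem exists_mul_of_coprime {A B : Subgroup G} (h : A.index.Coprime B.index) (g : G) :
    ∃ b ∈ B, ∃ a ∈ A, g = b * a := by
  have h1 : A.relIndex B = A.index := by
    refine le_antisymm (relIndex_le_of_le_right le_top (by
      rw [relIndex_top_right]; exact index_ne_zero_of_finite) |>.trans (relIndex_top_right A).le)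
      (Nat.le_of_dvd (Nat.pos_of_ne_zero index_ne_zero_of_finite) (h.dvd_of_dvd_mul_right ?_))
    rw [← inf_relIndex_right, relIndex_mul_index inf_le_right]
    exact index_dvd_of_le inf_le_left
  have h2 : MulAction.stabilizer B ((1 : G) : G ⧸ A) = A.subgroupOf B := by
    ext b
    rw [MulAction.mem_stabilizer_iff, mem_subgroupOf]
    change (((b : G) * 1 : G) : G ⧸ A) = _ ↔ _
    rw [eq_comm, QuotientGroup.eq]
    simp
  have h3 := MulAction.index_stabilizer B ((1 : G) : G ⧸ A)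
  rw [h2] at h3
  have h4 : MulAction.orbit B ((1 : G) : G ⧸ A) = Set.univ :=
    Set.eq_of_subset_of_ncard_le (Set.subset_univ _) (by
      rw [Set.ncard_univ, ← h3]; exact h1.ge)
  obtain ⟨b, hb⟩ := (h4.ge (Set.mem_univ (g : G ⧸ A)) :)
  change (((b : G) * 1 : G) : G ⧸ A) = _ at hb
  exact ⟨b, b.2, _, QuotientGroup.eq.mp hb, by group⟩

theorem index_inf_of_coprime {A B : Subgroup G} (h : A.index.Coprime B.index) :
    (A ⊓ B).index = A.index * B.index :=
  le_antisymm index_inf_le (Nat.le_of_dvd (Nat.pos_of_ne_zero index_ne_zero_of_finite)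
    (h.mul_dvd_of_dvd_of_dvd (index_dvd_of_le inf_le_left) (index_dvd_of_le inf_le_right)))

/-- `PSL(2, 2^m)`, `m ≥ 2` -/
def L2e (G : Type*) [Group G] : Prop :=
  ∃ (m : ℕ) (F : Type) (_ : Field F) (_ : Fintype F), 2 ≤ m ∧ Fintype.card F = 2 ^ m ∧
    Nonempty (G ≃* Matrix.ProjectiveSpecialLinearGroup (Fin 2) F)

/-- the centralizer of `w` has a normal Sylow 2-subgroup of `G` -/
def FC (w : G) : Prop := ∃ P, IsSylowOf 2 P ⊤ ∧ P ≤ Cen1 w ∧ Cen1 w ≤ Nor P

theorem FC.uniq (h : FC w) {P Q : Subgroup G} (hP : IsSylowOf 2 P ⊤) (hQ : IsSylowOf 2 Q ⊤)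
    (h1 : P ≤ Cen1 w) (h2 : Q ≤ Cen1 w) : P = Q := by
  obtain ⟨R, hR, -, h3⟩ := h
  have : ∀ {P}, IsSylowOf 2 P ⊤ → P ≤ Cen1 w → R = P := fun hP h1 => hP.eq_of_le hR.isPGroup
    (hR.le_of_le_normalizer' hP.isPGroup le_top (h1.trans h3)) le_top
  exact (this hP h1).symm.trans (this hQ h2)

theorem Mn.fc (h : Mn w) (h2 : PE 2 w) (hf : ¬ 2 ∣ ix w) : FC w := by
  obtain ⟨P, hP⟩ := H5.exists_isSylowOf 2 (Cen1 w)
  exact ⟨P, sylow_of_not_dvd Nat.prime_two hP hf, hP.le, le_nor_of_central Nat.prime_two hP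
    fun y hy ho => h.le hy (h2.coprime ho)⟩

theorem comm_of_fc (h : ∀ w : G, w ≠ 1 → PE 2 w → FC w) {S : Subgroup G}
    (hS : IsSylowOf 2 S ⊤) : IsMulCommutative S := by
  by_cases h0 : S = ⊥
  · exact H5.isMulCommutative_of_forall fun a ha b hb => by
      rw [h0, mem_bot] at ha; simp [ha]
  obtain ⟨z, hz, oz, h1⟩ := exists_cen Nat.prime_two hS.isPGroup h0
  have z2 : z * z = 1 := by rw [← pow_two, ← oz, pow_orderOf_eq_one]
  have key : ∀ a ∈ S, a * a ≠ 1 → S ≤ Cen1 a := fun a ha h2 => by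
    have h3 : a * z * (a * z) = a * a := by
      rw [mul_assoc, ← mul_assoc z, ← c1_iff.mp (h1 ha), mul_assoc, z2, mul_one]
    have pe : ∀ b ∈ S, PE 2 b := fun b hb => PE.of_mem hS.isPGroup hb
    obtain ⟨P, hP, h4, -⟩ := h a (fun e => h2 (by simp [e])) (pe a ha)
    obtain ⟨Q, hQ, h5, -⟩ := h (a * z) (fun e => h2 (by simp [← h3, e])) (pe _ (mul_mem ha hz))
    obtain rfl := (h _ h2 (pe _ (mul_mem ha ha))).uniq hP hQ (h4.trans (cen1_le_of_mem
      (mul_mem (mem_zpowers a) (mem_zpowers a)))) (h5.trans (cen1_le_of_mem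
        (h3 ▸ mul_mem (mem_zpowers _) (mem_zpowers _))))
    rwa [(h z (ne_one_of_orderOf Nat.prime_two oz) (pe z hz)).uniq hS hP h1 fun g hg =>
      c1_symm (by simpa using mul_mem (inv_mem (c1_symm (h4 hg))) (c1_symm (h5 hg)))]
  refine H5.isMulCommutative_of_forall fun a ha b hb => ?_
  by_cases e1 : a * a = 1
  swap; · exact (c1_iff.mp (key a ha e1 hb)).symm
  by_cases e2 : b * b = 1
  swap; · exact c1_iff.mp (key b hb e2 ha)
  by_cases e3 : a * b * (a * b) = 1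
  · rw [← inv_eq_self_of_sq e3, mul_inv_rev, inv_eq_self_of_sq e1, inv_eq_self_of_sq e2]
  · exact mul_left_cancel ((c1_iff.mp (key _ (mul_mem ha hb) e3 ha)).trans (mul_assoc _ _ _))

section Simple
variable {G : Type u} [Group G] [Finite G] [hs : IsSimpleGroup G] (hG : ¬ IsMulCommutative G)
  {x y z w : G}
include hG

theorem cen1_ne_top (hx : x ≠ 1) : Cen1 x ≠ ⊤ := fun e => hx (mem_bot.mp
  (H8.center_eq_bot_of_simple hG ▸ mem_center_iff.mpr fun g => c1_iff.mp (e.ge (mem_top g))))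

theorem ix_ne_one (hx : x ≠ 1) : ix x ≠ 1 := fun e => cen1_ne_top hG hx (index_eq_one.mp e)

theorem not_comm_of_coprime (hx : x ≠ 1) (hy : y ≠ 1) (h : (ix x).Coprime (ix y)) :
    x ∉ Cen1 y := fun e => by
  have h1 : normalClosure {y} ≤ Cen1 x := (closure_le _).mpr fun a ha => by
    obtain ⟨b, hb, hc⟩ := Group.mem_conjugatesOfSet_iff.mp ha
    obtain ⟨g, rfl⟩ := isConj_iff.mp hc
    obtain rfl := Set.mem_singleton_iff.mp hb
    obtain ⟨u, hu, v, hv, rfl⟩ := exists_mul_of_coprime h.symm g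
    rw [show u * v * b * (u * v)⁻¹ = u * (v * b * v⁻¹) * u⁻¹ by group, c1_iff'.mp hv]
    exact mul_mem (mul_mem hu (c1_symm e)) (inv_mem hu)
  rcases hs.eq_bot_or_eq_top_of_normal (normalClosure {y}) inferInstance with h2 | h2
  · exact hy (mem_bot.mp (h2 ▸ subset_normalClosure rfl))
  · exact cen1_ne_top hG hx (top_le_iff.mp (h2 ▸ h1))

theorem not_isolated (ht : orderOf x = 2) : ¬ IsIsolated x := fun hi => by
  have h1 := L.zstar' ht hi
  have h2 : pPrimeCore 2 G = ⊥ := oddCore_of_simple (even_of_simple hG)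
  refine cen1_ne_top hG (ne_one_of_orderOf Nat.prime_two ht) (eq_top_iff.mpr fun g _ => ?_)
  have := h1 g
  rw [h2, mem_bot, mul_inv_eq_one] at this
  exact c1_iff'.mpr this

theorem exists_hyp {H : Subgroup G} (hH : IsStronglyEmbedded H) :
    ∃ Q D t, Hyp H Q D t ∧ Concl Q D t ∧ Fg Q t = ⊤ := by
  have hO := oddCore_of_simple (even_of_simple hG)
  obtain ⟨Q, D, t, h, c⟩ := seThm G H hH (rk2_top_iff.mp (rk2_of_se hH hO)) hO
  exact ⟨Q, D, t, h, c, (hs.eq_bot_or_eq_top_of_normal _ h.Fg_normal).resolve_left fun e =>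
    h.toA1.t_ne_one (mem_bot.mp (e ▸ mem_sup_right (mem_zpowers t)))⟩

theorem l2e_of_se {H S : Subgroup G} (hH : IsStronglyEmbedded H) (hS : W.AS S ⊤) : L2e G := by
  obtain ⟨Q, D, t, h, c, e⟩ := exists_hyp hG hH
  obtain ⟨s, hs⟩ := h.toA1.exists_dist
  obtain ⟨n, hn, e'⟩ := h.toA1.card_Q0 h.a3
  rcases c.tri s hs with ⟨-, -, F, i1, i2, h1, h2⟩ | ⟨-, h1, -⟩ | ⟨-, h1, -⟩
  · obtain ⟨f⟩ := h.equiv_of_cquot h2
    exact ⟨n, F, i1, i2, hn, h1.trans e',
      ⟨(topEquiv.symm.trans (MulEquiv.subgroupCongr e.symm)).trans f⟩⟩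
  all_goals exact absurd (hS.any c.two le_top) h1

theorem l2e_of_fc (h : ∀ w : G, w ≠ 1 → PE 2 w → FC w) : L2e G := by
  obtain ⟨S, hS⟩ := H5.exists_isSylowOf 2 (⊤ : Subgroup G)
  have h1 : W.AS S ⊤ := ⟨hS, comm_of_fc h hS⟩
  have h0 : S ≠ ⊥ := hS.ne_bot (by rw [card_top]; exact (even_of_simple hG).two_dvd)
  refine l2e_of_se hG (W.se_of_cen h1 h0 (W.nor_ne_top h0 fun e => hG ?_)
    (fun a ha oa => ?_) le_rfl) h1
  · exact ⟨⟨fun a b => h1.cm (e.ge (mem_top a)) (e.ge (mem_top b))⟩⟩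
  · have h2 := h a (ne_one_of_orderOf Nat.prime_two oa) (PE.of_orderOf oa)
    obtain ⟨P, hP, h3, h4⟩ := id h2
    rwa [h2.uniq hS hP (h1.c1 ha) h3]

end Simple

end IT
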