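import Cfsg.Agent.IT.Basic

/-! An abelian self-centralizing TI subgroup acting regularly on a conjugacy class. -/

set_option autoImplicit false
set_option linter.unusedSectionVars false
set_option linter.unusedVariables false

namespace IT

open Cfsg FT H4 BS
open Subgroup hiding one
open scoped Classical

universe u

theorem deg_num {ι κ : Type*} [DecidableEq ι] (L : Finset κ) (C : ι → Prop) (k : ι → κ → ℤ) (μ : κ → ι) {ε : ℤ}
    {e : ℕ} (hε : ε = 1 ∨ ε = -1) (h0 : ∀ χ, C χ → ∀ l ∈ L, k χ l = 0 ∨ k χ l = 1)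
    (h1 : ∀ χ χ', C χ → C χ' → χ ≠ χ' → ∀ l ∈ L, k χ l + k χ' l ≤ 1)
    (h2 : ∀ l ∈ L, ∃ χ, C χ ∧ k χ l = 1)
    (h3 : ∀ l ∈ L, (L.filter fun l' => μ l' = μ l).card = e)
    (h4 : ∀ χ, C χ → ∀ l ∈ L, ∀ l' ∈ L,
      k χ l - k χ l' = ε * ((if χ = μ l then 1 else 0) - if χ = μ l' then 1 else 0))
    {χ : ι} (hχ : C χ) {l : κ} (hl : l ∈ L) (e1 : k χ l = 1) :
    (L.filter fun m => k χ m = 1).card ∣ L.card := by
  have he : e ∣ L.card := by
    rw [Finset.card_eq_sum_card_image μ L]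
    refine Finset.dvd_sum fun a ha => ?_
    obtain ⟨m, hm, rfl⟩ := Finset.mem_image.mp ha
    rw [h3 m hm]
  by_cases hA : ∀ m ∈ L, k χ m = 1
  · rw [Finset.filter_true_of_mem hA]
  push Not at hA
  obtain ⟨l', hl', e2⟩ := hA
  have e2 := (h0 χ hχ l' hl').resolve_right e2
  rw [← h3 l hl] at he
  convert he using 2
  refine Finset.filter_congr fun m hm => ?_
  have a1 := h4 χ hχ l hl l' hl'
  have a2 := h4 χ hχ m hm l' hl'
  rw [e1, e2] at a1
  rw [e2] at a2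
  rcases hε with rfl | rfl
  · have b1 : χ = μ l ∧ χ ≠ μ l' := by split_ifs at a1 <;> simp_all
    rw [if_neg b1.2] at a2
    rw [← b1.1]
    split_ifs at a2 with b2
    · simp [← b2]; omega
    · simp [Ne.symm b2]; omega
  · have b1 : χ ≠ μ l ∧ χ = μ l' := by split_ifs at a1 <;> simp_all
    obtain ⟨χ', hχ', e3⟩ := h2 l' hl'
    have hne : χ ≠ χ' := fun e => by rw [← e] at e3; omega
    have a3 := h1 χ χ' hχ hχ' hne l hl
    have e4 : k χ' l = 0 := by rcases h0 χ' hχ' l hl with e | e <;> omega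
    have a4 := h4 χ' hχ' l hl l' hl'
    have a5 := h4 χ' hχ' m hm l' hl'
    have a6 := h1 χ χ' hχ hχ' hne m hm
    have b2 : χ' ≠ μ l' := fun e => hne (b1.2.trans e.symm)
    rw [e3, if_neg b2] at a4 a5
    rw [if_pos b1.2] at a2
    have b3 : χ' = μ l := by by_contra b3; rw [if_neg b3] at a4; omega
    rw [← b3]
    split_ifs at a2 a5 with b4 b5 b5
    · exact absurd (b4.trans b5.symm) hne
    · simp [Ne.symm b5]; omega
    · simp [← b5]; omega
    · omega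

variable {G : Type u} [Group G] [Finite G] [hs : IsSimpleGroup G] (hG : ¬ IsMulCommutative G)
include hG

theorem isolated_of {B : Subgroup G} {x : G} (hB : IsMulCommutative B)
    (hc : ∀ u ∈ B, u ≠ 1 → Cen1 u ≤ B) (hx1 : x ≠ 1) (hi : ix x = Nat.card B)
    (hx : ∀ u ∈ B, u ≠ 1 → ∀ g, u ∉ Cen1 (g * x * g⁻¹)) : IsIsolated x := by
  have := Fintype.ofFinite G
  have hB' : ∀ u ∈ B, u ≠ 1 → Cen1 u = B := fun u hu h1 => le_antisymm (hc u hu h1)
    fun v hv => c1_iff.mpr (H5.comm_of_isMulCommutative hB hv hu)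
  have ht : TIK B (Nor B) ⊤ := ⟨le_normalizer, le_top, le_rfl, hB, fun a ha h1 g _ e =>
    mem_normalizer_iff_conjS.mpr (by
      rw [← hB' a ha h1, conjS_cen1, hB' _ e (conj_ne_one h1), hB' a ha h1]),
    fun a ha h1 => inf_le_right.trans (hc a ha h1)⟩
  set π := ind (⊤ ⊓ Cen1 x) ⊤ (one (⊤ ⊓ Cen1 x)) with hπ
  have cπ : Chr ⊤ π := (chr_one _).ind le_top
  have vπ : ∀ g, π g = ((cob ⊤ x).filter fun b => g * b = b * g).card := fun g =>
    ind_cen (fun _ => mem_cob) (mem_top g)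
  have iπ : iz ⊤ π (one ⊤) = 1 := iz_of_eq (by
    rw [ip_ind_left le_top _ (cf_one ⊤), ← ip_res_right, res_one_eq le_top, ip_one_one]; simp)
  have h1 : ∀ l, Irr B l → ∑ χ ∈ irrs ⊤, iz ⊤ π χ * iz B χ l = 1 := fun l hl => by
    rw [← iz_eq_sum cπ.vchr le_top hl.vchr]
    apply iz_of_eq
    rw [ip_of_const (c := 0) (fun u hu h1 => by
      rw [vπ, Finset.filter_false_of_mem fun b hb e => by
        obtain ⟨g, -, rfl⟩ := mem_cob.mp hb
        exact hx u hu h1 g (c1_iff.mpr e)]; simp) (hl.lin_of_comm hB), hπ, ind_apply_one le_top,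
      one_one, top_inf_eq, relIndex_top_right, show (Cen1 x).index = _ from hi]
    simp [card_ne_zero' B]
  have h2 : ∀ χ l, Irr ⊤ χ → Irr B l → 0 ≤ iz ⊤ π χ ∧ 0 ≤ iz B χ l := fun χ l hχ hl =>
    ⟨iz_nonneg cπ le_rfl hχ.chr, iz_nonneg hχ.chr le_top hl.chr⟩
  let C : (G → ℂ) → Prop := fun χ => Irr ⊤ χ ∧ 1 ≤ iz ⊤ π χ
  have h3 : ∀ χ χ', C χ → C χ' → χ ≠ χ' → ∀ l, Irr B l → iz B χ l + iz B χ' l ≤ 1 :=
    fun χ χ' a b hne l hl => by
      have := Finset.sum_le_sum_of_subset_of_nonneg (s := {χ, χ'}) (t := irrs ⊤)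
        (f := fun χ => iz ⊤ π χ * iz B χ l) (by
          intro ψ hψ
          rcases Finset.mem_insert.mp hψ with rfl | hψ
          · exact mem_irrs.mpr a.1
          · exact Finset.mem_singleton.mp hψ ▸ mem_irrs.mpr b.1) fun ψ hψ _ =>
          mul_nonneg (h2 ψ l (mem_irrs.mp hψ) hl).1 (h2 ψ l (mem_irrs.mp hψ) hl).2
      rw [h1 l hl, Finset.sum_pair hne] at this
      nlinarith [(h2 χ l a.1 hl).2, (h2 χ' l b.1 hl).2, a.2, b.2]
  have h4 : ∀ χ, C χ → ∀ l, Irr B l → iz B χ l = 0 ∨ iz B χ l = 1 := fun χ a l hl => by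
    have := Finset.single_le_sum (f := fun χ => iz ⊤ π χ * iz B χ l) (fun ψ hψ =>
      mul_nonneg (h2 ψ l (mem_irrs.mp hψ) hl).1 (h2 ψ l (mem_irrs.mp hψ) hl).2) (mem_irrs.mpr a.1)
    rw [h1 l hl] at this
    have := (h2 χ l a.1 hl).2
    have : iz B χ l ≤ 1 := by nlinarith [a.2]
    omega
  have h5 : ∀ l ∈ BS.Lam B, ∃ χ, C χ ∧ iz B χ l = 1 := fun l hl => by
    have hl := (mem_Lam.mp hl).2
    obtain ⟨χ, hχ, e⟩ := Finset.exists_ne_zero_of_sum_ne_zero ((h1 l hl).trans_ne one_ne_zero)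
    have := (h2 χ l (mem_irrs.mp hχ) hl).1
    have a : C χ := ⟨mem_irrs.mp hχ, by have := left_ne_zero_of_mul e; omega⟩
    exact ⟨χ, a, (h4 χ a l hl).resolve_left (right_ne_zero_of_mul e)⟩
  obtain ⟨μ, ε, hε, -, h6, -, h7⟩ := ht.exc
  have h8 : ∀ χ, C χ → χ ≠ one ⊤ → χ x = 0 := fun χ a hne => by
    have b1 : iz B (one ⊤) (one B) = 1 := iz_of_eq (by
      rw [← ip_res_left, res_one_eq le_top, ip_one_one]; simp)
    have b2 := h3 χ _ a ⟨irr_one ⊤, iπ.ge⟩ hne _ (irr_one B)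
    have b3 : iz B χ (one B) = 0 := by rcases h4 χ a _ (irr_one B) with e | e <;> omega
    have b4 : χ 1 = (((BS.Lam B).filter fun m => iz B χ m = 1).card : ℕ) := by
      rw [ht.degree a.1, ← Finset.add_sum_erase _ _ (mem_irrs.mpr (irr_one B)), b3, zero_add,
        Finset.card_filter]
      push_cast
      exact Finset.sum_congr rfl fun l hl => by
        rcases h4 χ a l (mem_Lam.mp hl).2 with e | e <;> simp [e]
    obtain ⟨l, hl⟩ := Finset.card_ne_zero.mp fun e => a.1.apply_one_ne_zero (by rw [b4, e]; simp)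
    obtain ⟨hl, e1⟩ := Finset.mem_filter.mp hl
    have b5 := deg_num (BS.Lam B) C (iz B) μ hε (fun χ a l hl => h4 χ a l (mem_Lam.mp hl).2)
      (fun χ χ' a b e l hl => h3 χ χ' a b e l (mem_Lam.mp hl).2) h5 h6
      (fun χ a => h7 χ a.1) a hl e1
    have hχ := irr_top_iff.mp a.1
    refine (H8.irr_eq_zero_or_norm_eq hχ x b4 ?_).resolve_right fun e =>
      hx1 (H8.irr_norm_ne_of_simple hG hχ (fun e => hne (e.trans (funext fun g => ?_))) e)
    · rw [← H8.index_centralizer_eq, show (Cen1 x).index = _ from hi, ← ht.card_Lam]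
      exact Nat.Coprime.coprime_dvd_right b5 (by simp)
    · simp [one_of_mem]
  have h9 : π x = 1 := by
    rw [cπ.cf.apply_eq_sum, Finset.sum_eq_single_of_mem (one ⊤) (mem_irrs.mpr (irr_one ⊤))
      fun χ hχ hne => ?_, ← iz_eq cπ.vchr le_rfl (vchr_one ⊤), iπ, one_of_mem (mem_top x)]
    · simp
    have hχ := mem_irrs.mp hχ
    rw [← iz_eq cπ.vchr le_rfl hχ.vchr]
    rcases (h2 χ _ hχ (irr_one B)).1.eq_or_lt with e | e
    · rw [← e]; simp
    · rw [h8 χ ⟨hχ, e⟩ hne, mul_zero]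
  rw [vπ, Nat.cast_eq_one, Finset.card_eq_one] at h9
  obtain ⟨a, ha⟩ := h9
  intro g hg
  have m1 : ∀ g : G, Commute x (g * x * g⁻¹) → g * x * g⁻¹ = a := fun g hg =>
    Finset.mem_singleton.mp (ha ▸ Finset.mem_filter.mpr ⟨mem_cob.mpr ⟨g, mem_top g, rfl⟩, hg⟩)
  rw [m1 g hg, ← m1 1 (by simp)]; simp

end IT
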