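import Cfsg.Agent.IT.Two
import Cfsg.Agent.H8.SLn
import Cfsg.Agent.H9.SL2
import Cfsg.Agent.GW.Dg1

/-! Centralizer orders in `SL(2, q)`. -/

set_option autoImplicit false
set_option linter.unusedSectionVars false
set_option linter.unusedVariables false

namespace IT

open Cfsg Subgroup FT H4 BS Matrix
open scoped MatrixGroups Classical

variable {F : Type} [Field F] [Fintype F]

/-- the conic `a² + τab + b² = 1` -/
def Con (τ : F) : Set (F × F) := {p | p.1 ^ 2 + τ * p.1 * p.2 + p.2 ^ 2 = 1}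

theorem comm_form {g h : GW.Dg.M2 F} (hg : ∀ c : F, g ≠ c • (1 : GW.Dg.M2 F))
    (e : h * g = g * h) : ∃ a b : F, h = a • (1 : GW.Dg.M2 F) + b • g := by
  simp only [ne_eq, GW.Dg.mx] at e hg ⊢
  obtain ⟨e1, e2, e3, e4⟩ := e
  suffices ∃ b, h 0 1 = b * g 0 1 ∧ h 1 0 = b * g 1 0 ∧ h 0 0 - h 1 1 = b * (g 0 0 - g 1 1) by
    obtain ⟨b, h1, h2, h3⟩ := this
    exact ⟨h 0 0 - b * g 0 0, b, by ring, h1, h2, by linear_combination -h3⟩
  by_cases h1 : g 0 1 = 0
  · by_cases h2 : g 1 0 = 0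
    · have h3 : g 0 0 - g 1 1 ≠ 0 := fun e => hg (g 0 0) ⟨rfl, h1, h2, (sub_eq_zero.mp e).symm⟩
      refine ⟨(h 0 0 - h 1 1) / (g 0 0 - g 1 1), ?_, ?_, by field_simp⟩ <;> field_simp
      · linear_combination -e2
      · linear_combination e3
    · refine ⟨h 1 0 / g 1 0, ?_, by field_simp, ?_⟩ <;> field_simp
      · linear_combination e1
      · linear_combination -e3
  · refine ⟨h 0 1 / g 0 1, by field_simp, ?_, ?_⟩ <;> field_simp
    · linear_combination -e1
    · linear_combination e2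

theorem det_form (g : SL(2, F)) (a b : F) :
    (a • (1 : GW.Dg.M2 F) + b • g.1).det = a ^ 2 + g.1.trace * a * b + b ^ 2 := by
  have := g.2
  simp only [GW.Dg.mx] at this ⊢
  linear_combination b ^ 2 * this

theorem card_cen_sl {g : SL(2, F)} (hg : ∀ c : F, g.1 ≠ c • (1 : GW.Dg.M2 F)) :
    Nat.card (Cen1 g) = (Con g.1.trace).ncard := by
  symm
  refine Nat.card_congr (Equiv.ofBijective (fun p : Con g.1.trace => (⟨⟨p.1.1 • 1 + p.1.2 • g.1,
    (det_form g _ _).trans p.2⟩, c1_iff.mpr (Subtype.ext (by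
      show (_ + _) * g.1 = g.1 * (_ + _)
      simp [add_mul, mul_add]))⟩ : Cen1 g)) ⟨fun p p' e => ?_, fun h => ?_⟩)
  · have e : p.1.1 • (1 : GW.Dg.M2 F) + p.1.2 • g.1 = p'.1.1 • 1 + p'.1.2 • g.1 :=
      congrArg (fun x : Cen1 g => x.1.1) e
    have h1 : p.1.2 = p'.1.2 := by
      by_contra h1
      refine hg ((p'.1.1 - p.1.1) / (p.1.2 - p'.1.2)) ?_
      rw [div_eq_inv_mul, mul_smul, eq_inv_smul_iff₀ (sub_ne_zero.mpr h1), sub_smul, sub_smul]
      exact sub_eq_sub_iff_add_eq_add.mpr ((add_comm _ _).trans e)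
    rw [h1, add_left_inj] at e
    exact Subtype.ext (Prod.ext (by simpa using congrFun (congrFun e 0) 0) h1)
  · obtain ⟨a, b, e⟩ := comm_form (h := h.1.1) hg (congrArg Subtype.val (c1_iff.mp h.2 :))
    exact ⟨⟨(a, b), (det_form g a b).symm.trans (e ▸ h.1.2)⟩, Subtype.ext (Subtype.ext e.symm)⟩

/-- the roots of `x² + τx + 1` -/
def Rt (τ : F) : Set F := {x | x ^ 2 + τ * x + 1 = 0}

theorem con_add {τ : F} (h : τ ^ 2 ≠ 4) : (Con τ).ncard + (Rt τ).ncard = Fintype.card F + 1 := by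
  have h1 : ∀ x, x ∈ Rt τ → 2 * x + τ ≠ 0 := fun x (hx : _ = _) e => h (by
    linear_combination (-4) * hx + (2 * x + τ) * e)
  let f : F → F × F := fun x =>
    (1 - x * ((2 * x + τ) / (x ^ 2 + τ * x + 1)), -((2 * x + τ) / (x ^ 2 + τ * x + 1)))
  have h2 : Con τ = insert (-1, 0) (f '' (Rt τ)ᶜ) := by
    ext ⟨a, b⟩
    refine ⟨fun hp => ?_, ?_⟩
    · have hp : a ^ 2 + τ * a * b + b ^ 2 = 1 := hp
      by_cases hb : b = 0
      · subst hb
        by_cases ha : a = -1
        · exact Or.inl (by rw [ha])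
        obtain rfl : a = 1 := (mul_self_eq_one_iff.mp (by linear_combination hp)).resolve_right ha
        have h3 : (2 : F) ≠ 0 := fun e => ha (by linear_combination e)
        have h4 : 2 * (-τ / 2) + τ = 0 := by field_simp; ring
        exact Or.inr ⟨-τ / 2, fun e => h1 _ e h4, by simp only [f, h4]; simp⟩
      have h3 : b * (((a - 1) / b) ^ 2 + τ * ((a - 1) / b) + 1) = -(2 * ((a - 1) / b) + τ) := by
        field_simp; linear_combination hp
      have h4 : (a - 1) / b ∉ Rt τ := fun e => h1 _ e (by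
        rw [(e : _ = _), mul_zero] at h3; linear_combination h3)
      have h5 : (2 * ((a - 1) / b) + τ) / (((a - 1) / b) ^ 2 + τ * ((a - 1) / b) + 1) = -b := by
        rw [div_eq_iff h4]; linear_combination h3
      exact Or.inr ⟨_, h4, by simp only [f, h5]; ext <;> simp [hb]⟩
    · rintro (e | ⟨x, hx, e⟩)
      · rw [e]; simp [Con]
      · have hx : x ^ 2 + τ * x + 1 ≠ 0 := hx
        have h3 := div_mul_cancel₀ (2 * x + τ) hx
        rw [← e]
        show _ = _
        simp only [f]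
        linear_combination ((2 * x + τ) / (x ^ 2 + τ * x + 1)) * h3
  have h3 : ∀ x ∈ (Rt τ)ᶜ, (f x).2 = 0 → 2 * x + τ = 0 ∧ (2 : F) ≠ 0 := fun x hx e => by
    have e := (div_eq_zero_iff.mp (neg_eq_zero.mp e)).resolve_right hx
    exact ⟨e, fun e' => h (by linear_combination τ * e + (-τ * x - 2) * e')⟩
  rw [h2, Set.ncard_insert_of_notMem, Set.InjOn.ncard_image, add_right_comm, add_comm (Set.ncard _),
    Set.ncard_add_ncard_compl, Nat.card_eq_fintype_card]
  · intro x hx y hy e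
    by_cases h4 : (f x).2 = 0
    · exact mul_left_cancel₀ (h3 x hx h4).2 (by
        linear_combination (h3 x hx h4).1 - (h3 y hy (e ▸ h4)).1)
    have e1 := congrArg Prod.fst e
    have e2 := congrArg Prod.snd e
    simp only [f, neg_inj] at e1 e2 h4
    rw [← e2] at e1
    exact mul_right_cancel₀ (neg_ne_zero.mp h4) (by linear_combination -e1)
  · rintro ⟨x, hx, e⟩
    have h4 := h3 x hx (congrArg Prod.snd e)
    have e1 := congrArg Prod.fst e
    simp only [f, h4.1] at e1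
    exact h4.2 (by linear_combination e1)

theorem rt_card {τ : F} (h : τ ^ 2 ≠ 4) {a : F} (ha : a ∈ Rt τ) : (Rt τ).ncard = 2 := by
  have ha : a ^ 2 + τ * a + 1 = 0 := ha
  refine Set.ncard_eq_two.mpr ⟨a, -τ - a, fun e => h (by
    linear_combination (-4) * ha + (2 * a + τ) * e), Set.ext fun x => ⟨fun hx => ?_, ?_⟩⟩
  · have hx : x ^ 2 + τ * x + 1 = 0 := hx
    have : (x - a) * (x - (-τ - a)) = 0 := by linear_combination hx - ha
    exact (mul_eq_zero.mp this).imp sub_eq_zero.mp sub_eq_zero.mp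
  · rintro (rfl | rfl)
    · exact ha
    · show _ = _; linear_combination ha

theorem exists_rt_empty : ∃ τ : F, Rt τ = ∅ := by
  by_contra! h
  choose f hf using h
  have h1 : ∀ τ, f τ ≠ 0 := fun τ e => by simpa [Rt, e] using hf τ
  obtain ⟨τ, e⟩ := Finite.injective_iff_surjective.mp (fun τ τ' e => mul_right_cancel₀ (h1 τ) (by
    have a : _ = _ := hf τ
    have b : _ = _ := hf τ'
    rw [← e] at b
    linear_combination a - b) : Function.Injective f) 0
  exact h1 τ e

theorem exists_trace (τ : F) :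
    ∃ g : SL(2, F), g.1.trace = τ ∧ ∀ c : F, g.1 ≠ c • (1 : GW.Dg.M2 F) :=
  ⟨⟨!![0, -1; 1, τ], by simp [det_fin_two]⟩, by simp [trace_fin_two], fun c e => by
    simpa using congrFun (congrFun e 1) 0⟩

/-- the set of class sizes of noncentral elements -/
def TS' (G : Type*) [Group G] : Set ℕ :=
  {m : ℕ | ∃ x : G, x ∉ center G ∧ m = (centralizer ({x} : Set G)).index}

theorem ts_le {G H : Type*} [Group G] [Group H] (e : G ≃* H) : TS' G ⊆ TS' H := by
  rintro _ ⟨x, hx, rfl⟩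
  refine ⟨e x, fun h => hx (mem_center_iff.mpr fun g => e.injective (by
    simpa using mem_center_iff.mp h (e g))), ?_⟩
  rw [← index_map_equiv _ e]
  congr 1
  ext y
  obtain ⟨y, rfl⟩ := e.surjective y
  refine (mem_map_iff_mem (f := (e : G →* H)) e.injective).trans ?_
  simp only [mem_centralizer_singleton_iff, ← map_mul, e.apply_eq_iff_eq]

theorem ts_congr {G H : Type*} [Group G] [Group H] (e : G ≃* H) : TS' G = TS' H :=
  (ts_le e).antisymm (ts_le e.symm)

theorem not_comm_of_ts {G : Type*} [Group G] (h : (TS' G).Nonempty) : ¬ IsMulCommutative G :=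
  fun e => by
    obtain ⟨_, x, hx, -⟩ := h
    exact hx (mem_center_iff.mpr fun g => e.is_comm.comm g x)

section Even
variable (h2 : (2 : F) = 0)
include h2

theorem eq_one_of_scalar {g : SL(2, F)} {c : F} (e : g.1 = c • (1 : GW.Dg.M2 F)) : g = 1 := by
  have h1 := g.2
  rw [e, GW.Dg.det_smul2, det_one, mul_one] at h1
  obtain rfl : c = 1 := sub_eq_zero.mp (pow_eq_zero_iff two_ne_zero |>.mp (by
    linear_combination h1 + (1 - c) * h2))
  exact Subtype.ext (e.trans (one_smul _ _))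

theorem center_sl : center SL(2, F) = ⊥ := eq_bot_iff.mpr fun g hg => by
  obtain ⟨r, -, e⟩ := Matrix.SpecialLinearGroup.mem_center_iff.mp hg
  exact eq_one_of_scalar h2 (c := r) (e.symm.trans (by simp [scalar_apply, smul_one_eq_diagonal]))

theorem con_zero : (Con (0 : F)).ncard = Fintype.card F := by
  rw [show Con (0 : F) = Set.range fun a => (a, a + 1) from Set.ext fun ⟨a, b⟩ => ⟨fun (h : _ = _) =>
    ⟨a, Prod.ext rfl (sub_eq_zero.mp (pow_eq_zero_iff two_ne_zero |>.mp (by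
      linear_combination h + (a + 1 - a * b - b) * h2)))⟩, by
      rintro ⟨a, e⟩; rw [← e]; show _ = _; linear_combination (a ^ 2 + a) * h2⟩,
    Set.ncard_range_of_injective fun a b e => congrArg Prod.fst e, Nat.card_eq_fintype_card]

theorem ts_sl_even {k : ℕ} (hk : Fintype.card F = k + 1) (h3 : 3 ≤ k) :
    TS' SL(2, F) = {k * (k + 2), k * (k + 1), (k + 1) * (k + 2)} := by
  have hc : Nat.card SL(2, F) = k * (k + 1) * (k + 2) := by
    rw [H9.card_SL2, hk, Nat.sub_eq_of_eq_add (by ring : (k + 1) ^ 2 = k * (k + 2) + 1)]; ring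
  have key : ∀ {g : SL(2, F)} {n m : ℕ}, (∀ c : F, g.1 ≠ c • (1 : GW.Dg.M2 F)) →
      (Con g.1.trace).ncard = n → 0 < n → n * m = k * (k + 1) * (k + 2) → ix g = m :=
    fun {g n m} hg e h0 e' => Nat.eq_of_mul_eq_mul_left h0 (by
      rw [e', ← hc, ← card_mul_ix g, card_cen_sl hg, e])
  have h4 : ∀ {τ : F}, τ ≠ 0 → τ ^ 2 ≠ 4 := fun h e => pow_ne_zero 2 h (by
    linear_combination e + 2 * h2)
  have k1 : ∀ {g : SL(2, F)}, (∀ c : F, g.1 ≠ c • (1 : GW.Dg.M2 F)) → g.1.trace = 0 →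
      ix g = k * (k + 2) := fun hg e => key hg (by rw [e, con_zero h2, hk]) (by omega) (by ring)
  have k2 : ∀ {g : SL(2, F)}, (∀ c : F, g.1 ≠ c • (1 : GW.Dg.M2 F)) → g.1.trace ≠ 0 →
      Rt g.1.trace = ∅ → ix g = k * (k + 1) := fun hg e e' => key (n := k + 2) hg (by
    have := con_add (h4 e); rw [e', Set.ncard_empty] at this; omega) (by omega) (by ring)
  have k3 : ∀ {g : SL(2, F)} {a : F}, (∀ c : F, g.1 ≠ c • (1 : GW.Dg.M2 F)) → g.1.trace ≠ 0 →
      a ∈ Rt g.1.trace → ix g = (k + 1) * (k + 2) := fun hg e e' => key (n := k) hg (by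
    have := con_add (h4 e); rw [rt_card (h4 e) e'] at this; omega) (by omega) (by ring)
  have k4 : ∀ {g : SL(2, F)}, (∀ c : F, g.1 ≠ c • (1 : GW.Dg.M2 F)) → ix g ∈ TS' SL(2, F) :=
    fun {g} hg => ⟨g, fun e => hg 1 (by rw [center_sl h2, mem_bot] at e; simp [e]), rfl⟩
  refine Set.Subset.antisymm ?_ ?_
  · rintro _ ⟨g, hg, rfl⟩
    have h5 : ∀ c : F, g.1 ≠ c • (1 : GW.Dg.M2 F) := fun c e =>
      hg (eq_one_of_scalar h2 e ▸ one_mem _)
    by_cases e : g.1.trace = 0
    · exact .inl (k1 h5 e)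
    rcases (Rt g.1.trace).eq_empty_or_nonempty with e' | ⟨a, e'⟩
    · exact .inr (.inl (k2 h5 e e'))
    · exact .inr (.inr (k3 h5 e e'))
  · rintro _ (rfl | rfl | rfl)
    · obtain ⟨g, e, hg⟩ := exists_trace (0 : F)
      exact k1 hg e ▸ k4 hg
    · obtain ⟨τ, h5⟩ := exists_rt_empty (F := F)
      obtain ⟨g, rfl, hg⟩ := exists_trace τ
      exact k2 hg (fun e => h5.le (show (1 : F) ∈ Rt _ by
        rw [e]; show _ = _; linear_combination h2)) h5 ▸ k4 hg
    · obtain ⟨a, ha, ha'⟩ := H8.exists_sq_ne_one (F := F) (by rw [Nat.card_eq_fintype_card]; omega)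
      obtain ⟨g, e, hg⟩ := exists_trace (a + a⁻¹)
      refine k3 (a := a) hg (fun e' => ha' ?_) ?_ ▸ k4 hg
      · rw [e] at e'
        field_simp at e'
        linear_combination e' - h2
      · rw [e]; show _ = _; field_simp; linear_combination (a ^ 2 + 1) * h2

end Even

theorem L2e.rank_three {G : Type*} [Group G] (h : L2e G) :
    IsSimpleGroup G ∧ ¬ IsMulCommutative G ∧ (TS' G).ncard = 3 := by
  obtain ⟨m, F, _, _, hm, hF, ⟨e⟩⟩ := h
  have h2 : (2 : F) = 0 := by
    have := charP_of_card_eq_prime_pow hF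
    exact CharP.cast_eq_zero F 2
  have h4 : 4 ≤ Fintype.card F := hF ▸ Nat.pow_le_pow_right two_pos hm
  obtain ⟨k, hk⟩ : ∃ k, Fintype.card F = k + 1 := ⟨Fintype.card F - 1, by omega⟩
  have := H8.psl_simple (ι := Fin 2) (F := F) (.inr ⟨by simp,
    H8.exists_sq_ne_one (by rwa [Nat.card_eq_fintype_card])⟩)
  have h3 := (ts_congr (e.trans ((QuotientGroup.quotientMulEquivOfEq (center_sl h2)).trans
    QuotientGroup.quotientBot))).trans (ts_sl_even h2 hk (by omega))
  refine ⟨e.isSimpleGroup, not_comm_of_ts (h3 ▸ ⟨_, .inl rfl⟩), ?_⟩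
  rw [h3]
  exact Set.ncard_eq_three.mpr ⟨_, _, _, by nlinarith, by nlinarith, by nlinarith, rfl⟩

end IT
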