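import Cfsg.Agent.IT.Iso

/-! Two-headed simple groups; conjugate type rank three. -/

set_option autoImplicit false
set_option linter.unusedSectionVars false
set_option linter.unusedVariables false

namespace IT

open Cfsg Subgroup FT H4 BS
open H5 (IsSylowOf)

universe u

variable {G : Type u} [Group G] [Finite G] {x y z w : G} {p α β γ : ℕ}

theorem orderOf_dvd_card (x : G) : orderOf x ∣ Nat.card (Cen1 x) :=
  orderOf_dvd_natCard _ (self_mem x)

theorem Mx.pow (h : Mx x) (hy : y ∈ zpowers x) (h1 : y ≠ 1) : Cen1 y = Cen1 x :=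
  h.eq h1 (cen1_le_of_mem hy)

theorem Mx.exists_prime (h : Mx x) : ∃ y, (orderOf y).Prime ∧ Cen1 y = Cen1 x := by
  obtain ⟨y, hy, hp⟩ := exists_prime_pow h.1
  exact ⟨y, hp, h.pow hy (ne_one_of_prime_orderOf hp)⟩

/-- a centralizer which is both minimal and maximal, and not a `p`-group, is abelian -/
theorem comm_of_free (h : Mn x) (h' : Mx x) (hn : ∀ p : ℕ, p.Prime → ¬ IsPGroup p (Cen1 x)) :
    IsMulCommutative (Cen1 x) := by
  obtain ⟨y, hp, e⟩ := h'.exists_prime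
  have hy := h.congr (ne_one_of_prime_orderOf hp) (congrArg index e)
  have : Fact (orderOf y).Prime := ⟨hp⟩
  obtain ⟨q, hq, h1, h2⟩ : ∃ q : ℕ, q.Prime ∧ q ∣ Nat.card (Cen1 x) ∧ q ≠ orderOf y := by
    by_contra! h1
    exact hn _ hp (IsPGroup.iff_card.mpr ⟨_, Nat.eq_prime_pow_of_unique_prime_dvd
      Nat.card_pos.ne' fun hq h2 => h1 _ hq h2⟩)
  obtain ⟨v, hv, rfl⟩ := exists_mem_of_dvd hq h1
  have e2 := h'.eq (ne_one_of_prime_orderOf hq) (e ▸ hy.le (e ▸ hv)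
    ((Nat.coprime_primes hp hq).mpr h2.symm))
  have hv' := h.congr (ne_one_of_prime_orderOf hq) (congrArg index e2)
  refine H5.isMulCommutative_of_forall fun a ha b hb => ?_
  obtain ⟨c, hc, d, hd, rfl, hc', hd'⟩ := exists_pPart (orderOf y) a
  refine c1_iff.mp (mul_mem (c1_symm ?_) (c1_symm ?_))
  · exact hv'.le (e2 ▸ zpowers_le.mpr ha hc) (PE.coprime hc'
      ((Nat.coprime_primes hq hp).mpr h2)).symm (e2 ▸ hb)
  · exact hy.le (e ▸ zpowers_le.mpr ha hd) hd'.symm (e ▸ hb)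

theorem le_of_comm {B : Subgroup G} (hB : IsMulCommutative B) (hu : x ∈ B) : B ≤ Cen1 x :=
  fun v hv => c1_iff.mpr (H5.comm_of_isMulCommutative hB hv hu)

/-- two heads -/
structure TH (G : Type*) [Group G] (α β : ℕ) : Prop where
  cop : α.Coprime β
  dvd : ∀ x : G, x ≠ 1 → α ∣ ix x ∨ β ∣ ix x
  exa : ∃ x : G, x ≠ 1 ∧ ix x = α
  exb : ∃ x : G, x ≠ 1 ∧ ix x = β

theorem TH.symm (h : TH G α β) : TH G β α :=
  ⟨h.cop.symm, fun x hx => (h.dvd x hx).symm, h.exb, h.exa⟩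

variable [hs : IsSimpleGroup G] (hG : ¬ IsMulCommutative G)
include hG

theorem not_forall_dvd {n : ℕ} (hn : n ≠ 1) : ¬ ∀ x : G, x ≠ 1 → n ∣ ix x := fun h => by
  obtain ⟨p, hp, h1⟩ := Nat.exists_prime_and_dvd hn
  obtain ⟨x, hx⟩ := exists_ne (1 : G)
  obtain ⟨z, h2, h3⟩ := exists_full (G := G) hp (h1.trans ((h x hx).trans (index_dvd_card _)))
  exact h3 (h1.trans (h z (ne_one_of_orderOf hp h2)))

theorem ix_ne_pow (hx : x ≠ 1) (hp : p.Prime) (k : ℕ) : ix x ≠ p ^ k := by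
  rw [ix, H8.index_centralizer_eq]
  exact H8.card_class_ne_prime_pow hG hx hp k

theorem l2e_of_anti (h : ∀ x y : G, x ≠ 1 → y ≠ 1 → ix x ∣ ix y → ix y = ix x) : L2e G := by
  have mn : ∀ {x : G}, x ≠ 1 → Mn x := fun hx => ⟨hx, fun y hy => h _ y hx hy⟩
  have mx : ∀ {x : G}, x ≠ 1 → Mx x := fun hx => ⟨hx, fun y hy e => (h y _ hy hx e).symm⟩
  refine l2e_of_fc hG fun w hw h2 => (mn hw).fc h2 ?_
  obtain ⟨P, hP⟩ := H5.exists_isSylowOf 2 (Cen1 w)
  obtain ⟨S, hS, h1⟩ := H5.exists_isSylowOf_ge hP.isPGroup le_top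
  have hwP : w ∈ P := hP.le_of_le_normalizer h2.isPGroup (zpowers_le.mpr (self_mem w))
    (hP.le.trans fun g hg => centralizer_le_normalizer _ (cen_iff.mpr fun a ha =>
      c1_iff.mp (cen1_le_of_mem ha hg))) (mem_zpowers w)
  obtain ⟨z, hz, oz, h3⟩ := exists_cen Nat.prime_two hS.isPGroup fun e =>
    hw (mem_bot.mp (e ▸ h1 hwP))
  have hz1 := ne_one_of_orderOf Nat.prime_two oz
  refine not_dvd_of_sylow hS (h3.trans ((mx hw).eq hz1 ?_).le)
  by_cases h4 : ∀ p : ℕ, p.Prime → ¬ IsPGroup p (Cen1 w)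
  · exact le_of_comm (comm_of_free (mn hw) (mx hw) h4) (c1_symm (h3 (h1 hwP)))
  push Not at h4
  obtain ⟨p, hp, h4⟩ := h4
  obtain rfl : p = 2 := by
    by_contra e
    exact hw (orderOf_eq_one_iff.mp (Nat.Coprime.eq_one_of_dvd (h2.coprime'
      (PE.of_mem h4 (self_mem w)) Nat.prime_two hp (Ne.symm e)) dvd_rfl))
  exact (hP.eq_of_le h4 hP.le le_rfl).le.trans (h1.trans h3)

namespace TH
variable (h : TH G α β)
include h

theorem ne_one : α ≠ 1 := by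
  obtain ⟨x, hx, rfl⟩ := h.exa
  exact ix_ne_one hG hx

theorem mx (hx : x ≠ 1) (e : ix x = α) : Mx x := ⟨hx, fun y hy h1 => by
  rw [e] at h1 ⊢
  rcases h.dvd y hy with h2 | h2
  · exact Nat.dvd_antisymm h1 h2
  · exact absurd (h.cop.symm.eq_one_of_dvd (h2.trans h1)) (h.symm.ne_one hG)⟩

theorem nc (hx : x ≠ 1) (hy : y ≠ 1) (e : ix x = α) (e' : ix y = β) : x ∉ Cen1 y :=
  not_comm_of_coprime hG hx hy (e ▸ e' ▸ h.cop)

theorem dvd_of (hx : x ≠ 1) (e : ix x = α) (hp : p.Prime) (h1 : p ∣ orderOf x) : p ∣ β := by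
  by_contra h2
  obtain ⟨y, hy, rfl⟩ := h.exb
  obtain ⟨u, hu, h3⟩ := exists_pow_of_dvd hp h1
  have h4 := ne_one_of_orderOf hp h3
  obtain ⟨g, hg⟩ := exists_conj_comm hp h2 (PE.of_orderOf h3)
  exact h.nc hG h4 (conj_ne_one hy) ((congrArg index ((h.mx hG hx e).pow hu h4)).trans e)
    (ix_conj g y) hg

theorem cop_ord (hx : x ≠ 1) (hy : y ≠ 1) (e : ix x = α) (e' : ix y = β) :
    (orderOf x).Coprime (orderOf y) := Nat.coprime_of_dvd fun p hp h1 h2 =>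
  hp.one_lt.ne' (Nat.eq_one_of_dvd_coprimes h.cop (h.symm.dvd_of hG hy e' hp h2)
    (h.dvd_of hG hx e hp h1))

/-- an element of prime order commuting with elements of both maximal types is not minimal -/
theorem not_mn (hx : x ≠ 1) (hy : y ≠ 1) (e : ix x = α) (e' : ix y = β) (hw : (orderOf w).Prime)
    (h1 : x ∈ Cen1 w) (h2 : y ∈ Cen1 w) : ¬ Mn w := fun hm => by
  by_cases h3 : orderOf w ∣ orderOf x
  · exact h.nc hG hx hy e e' (hm.le h2 ((h.cop_ord hG hx hy e e').coprime_dvd_left h3) h1)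
  · exact h.symm.nc hG hy hx e' e (hm.le h1 ((Nat.Prime.coprime_iff_not_dvd hw).mpr h3) h2)

theorem card_eq (e : ix x = α) (e' : ix y = β) (h1 : Cen1 x ⊓ Cen1 y = ⊥) :
    Nat.card G = α * β := by
  rw [← index_bot, ← h1, index_inf_of_coprime (by
    rw [show (Cen1 x).index = α from e, show (Cen1 y).index = β from e']; exact h.cop), ← e, ← e']

section Cop
variable (hc : Nat.card G = α * β)
include hc

theorem card_dvd (e : α ∣ ix x) : Nat.card (Cen1 x) ∣ β := by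
  obtain ⟨k, hk⟩ := e
  have h1 := card_mul_ix x
  rw [hc, hk, mul_left_comm] at h1
  exact ⟨k, (Nat.eq_of_mul_eq_mul_left (Nat.pos_of_mul_pos_right (hk ▸ ix_pos x)) h1).symm⟩

theorem card_cen (e : ix x = α) : Nat.card (Cen1 x) = β := by
  have h1 := card_mul_ix x
  rw [hc, e, mul_comm] at h1
  exact Nat.eq_of_mul_eq_mul_left (e ▸ ix_pos x) h1

theorem dvd_ix (hx : x ≠ 1) (hp : p.Prime) (h1 : p ∣ Nat.card (Cen1 x)) (h2 : p ∣ α) :
    β ∣ ix x := (h.dvd x hx).resolve_left fun e =>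
  hp.one_lt.ne' (Nat.eq_one_of_dvd_coprimes h.cop h2 (h1.trans (h.card_dvd hG hc e)))

theorem dvd_ix' (hy : β ∣ ix y) (hx : x ≠ 1) (hxy : x ∈ Cen1 y) : β ∣ ix x := by
  obtain ⟨p, hp, h1⟩ := Nat.exists_prime_and_dvd (orderOf_eq_one_iff.not.mpr hx)
  exact h.dvd_ix hG hc hx hp (h1.trans (orderOf_dvd_card x)) (h1.trans ((orderOf_dvd_natCard _ hxy).trans
    (h.symm.card_dvd hG (hc.trans (mul_comm _ _)) hy)))

/-- if the second head is also minimal, the elements of the first are isolated -/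
theorem isolated (hb : ∀ y : G, y ≠ 1 → β ∣ ix y → ix y = β) (hx : x ≠ 1) (e : ix x = α) :
    IsIsolated x := by
  obtain ⟨y, hy, e'⟩ := h.exb
  have h1 := h.symm.card_cen hG (hc.trans (mul_comm _ _)) e'
  have h2 : ∀ u ∈ Cen1 y, u ≠ 1 → ix u = β := fun u hu h1 =>
    hb u h1 (h.dvd_ix' hG hc e'.symm.dvd h1 hu)
  have hB := comm_of_free ⟨hy, fun z hz h1 => e' ▸ hb z hz (e' ▸ h1)⟩ (h.symm.mx hG hy e')
    fun p hp h3 => by
      have : Fact p.Prime := ⟨hp⟩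
      obtain ⟨k, hk⟩ := IsPGroup.iff_card.mp h3
      exact ix_ne_pow hG hx hp k (e.trans (h1.symm.trans hk))
  exact isolated_of hG hB (fun u hu h3 => (eq_of_index (le_of_comm hB hu)
    (e'.trans (h2 u hu h3).symm)).ge) hx (e.trans h1.symm) fun u hu h3 g =>
    h.symm.nc hG h3 (conj_ne_one hx) (h2 u hu h3) ((ix_conj g x).trans e)

theorem l2e_of_even (hb : ∀ y : G, y ≠ 1 → β ∣ ix y → ix y = β) (h2 : 2 ∣ α) : L2e G :=
  l2e_of_fc hG fun w hw h1 => by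
    have h3 := hb w hw (h.dvd_ix hG hc hw Nat.prime_two
      ((h1.dvd Nat.prime_two hw).trans (orderOf_dvd_card w)) h2)
    exact Mn.fc ⟨hw, fun z hz h4 => h3 ▸ hb z hz (h3 ▸ h4)⟩ h1 fun e =>
      absurd (Nat.eq_one_of_dvd_coprimes h.cop h2 (h3 ▸ e)) (by norm_num)

theorem ix_ne_of_two (hb : ∀ y : G, y ≠ 1 → β ∣ ix y → ix y = β) (hw : w ≠ 1) (h1 : PE 2 w) :
    ix w ≠ α := fun e => by
  obtain ⟨u, hu, h2⟩ := exists_pow_of_dvd Nat.prime_two (h1.dvd Nat.prime_two hw)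
  have h3 := ne_one_of_orderOf Nat.prime_two h2
  exact not_isolated hG h2 (h.isolated hG hc hb h3
    ((congrArg index ((h.mx hG hw e).pow hu h3)).trans e))

end Cop

theorem l2e_of_three (h3 : ∀ x : G, x ≠ 1 → ix x = α ∨ ix x = β ∨ ix x = γ) (hγ : α ∣ γ)
    (hne : γ ≠ α) : L2e G := by
  have mn : ∀ {w : G}, w ≠ 1 → ix w = γ → Mn w := fun hw e => ⟨hw, fun z hz h1 => by
    rw [e] at h1 ⊢
    rcases h3 z hz with h2 | h2 | h2
    · exact absurd (Nat.dvd_antisymm (h2 ▸ h1) hγ) hne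
    · exact absurd (h.cop.eq_one_of_dvd (hγ.trans (h2 ▸ h1))) (h.ne_one hG)
    · exact h2⟩
  obtain ⟨x, hx, e⟩ := h.exa
  obtain ⟨y, hy, e'⟩ := h.exb
  have hc := h.card_eq hG e e' (by
    by_contra h0
    obtain ⟨w, hw, hp⟩ := exists_prime_orderOf_mem h0
    have h1 := ne_one_of_prime_orderOf hp
    rcases h3 w h1 with h2 | h2 | h2
    · exact h.nc hG h1 hy h2 e' hw.2
    · exact h.symm.nc hG h1 hx h2 e hw.1
    · exact h.not_mn hG hx hy e e' hp (c1_symm hw.1) (c1_symm hw.2) (mn h1 h2))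
  have hb : ∀ y : G, y ≠ 1 → β ∣ ix y → ix y = β := fun z hz h1 => by
    rcases h3 z hz with h2 | h2 | h2
    · exact absurd (h.cop.symm.eq_one_of_dvd (h2 ▸ h1)) (h.symm.ne_one hG)
    · exact h2
    · exact absurd (orderOf_eq_one_iff.mp (Nat.eq_one_of_dvd_coprimes h.cop
        ((orderOf_dvd_card z).trans (h.symm.card_dvd hG (hc.trans (mul_comm _ _)) h1))
        ((orderOf_dvd_card z).trans (h.card_dvd hG hc (h2 ▸ hγ))))) hz
  by_cases h2 : 2 ∣ α
  · exact h.l2e_of_even hG hc hb h2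
  have h4 : ∀ w : G, w ≠ 1 → PE 2 w → ix w = γ := fun w hw h1 =>
    ((h3 w hw).resolve_left (h.ix_ne_of_two hG hc hb hw h1)).resolve_left fun e => h2
      ((h1.dvd Nat.prime_two hw).trans ((orderOf_dvd_card w).trans
        (h.symm.card_dvd hG (hc.trans (mul_comm _ _)) e.symm.dvd)))
  obtain ⟨z, oz, hz⟩ := exists_full (G := G) Nat.prime_two (even_of_simple hG).two_dvd
  rw [h4 z (ne_one_of_orderOf Nat.prime_two oz) (PE.of_orderOf oz)] at hz
  exact l2e_of_fc hG fun w hw h1 => (mn hw (h4 w hw h1)).fc h1 (h4 w hw h1 ▸ hz)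

end TH

/-- the set of class sizes -/
def TS (G : Type*) [Group G] : Set ℕ := {m | ∃ x : G, x ≠ 1 ∧ m = ix x}

theorem ts_eq : {m : ℕ | ∃ x : G, x ∉ center G ∧ m = (centralizer ({x} : Set G)).index} = TS G := by
  simp only [H8.center_eq_bot_of_simple hG, mem_bot, TS, ne_eq]

theorem l2e_of_rank_three (h : (TS G).ncard = 3) : L2e G := by
  by_cases h1 : ∀ x y : G, x ≠ 1 → y ≠ 1 → ix x ∣ ix y → ix y = ix x
  · exact l2e_of_anti hG h1
  push Not at h1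
  obtain ⟨x, w, hx, hw, h1, h2⟩ := h1
  have h3 : (TS G \ {ix x, ix w}).ncard = 1 := by
    rw [Set.ncard_sdiff (by rintro _ (rfl | rfl); exacts [⟨x, hx, rfl⟩, ⟨w, hw, rfl⟩]), h,
      Set.ncard_pair h2.symm]
  obtain ⟨β, h3⟩ := Set.ncard_eq_one.mp h3
  obtain ⟨⟨y, hy, rfl⟩, -⟩ := h3.ge rfl
  have h4 : ∀ z : G, z ≠ 1 → ix z = ix x ∨ ix z = ix y ∨ ix z = ix w := fun z hz => by
    by_contra! h4
    exact h4.2.1 (h3.le ⟨⟨z, hz, rfl⟩, by rintro (e | e); exacts [h4.1 e, h4.2.2 e]⟩)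
  refine TH.l2e_of_three hG ⟨Nat.coprime_of_dvd fun p hp a b =>
    not_forall_dvd hG hp.one_lt.ne' fun z hz => ?_, fun z hz => ?_, ⟨x, hx, rfl⟩, ⟨y, hy, rfl⟩⟩
    h4 h1 h2
  all_goals rcases h4 z hz with e | e | e <;> rw [e]
  exacts [a, b, a.trans h1, .inl dvd_rfl, .inr dvd_rfl, .inl h1]

end IT
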